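import Mathlib
import Cfsg.Prelude.Def_ClassicalGeometry
import Cfsg.Prelude.Def_GeometricClasses
import Cfsg.Agent.Lib.Helper25.TensDefs
import Cfsg.Agent.Lib.Helper25.SpTDefs

/-!
S5666 (`Sp_a ⊗ O_b` is maximal in `Sp_{ab}(q)`, `q` odd): the model and the shared definitions.

Model: `V = F^(Fin a × Fin b)`, pure tensors `pt x y` (helper25 `Tens`), the symplectic form on
`A = F^a` is the standard one `sf` (helper25 `SpT`: Gram matrix `Jm a`, pairs `(2k, 2k+1)`), the
symmetric form on `B = F^b` has Gram matrix `G` (`fB G`), the form on `V` is `fV G` (Gram matrix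
`Jm a ⊗ₖ G`), `SpV G` its isometry group, `KG a b F` the Kronecker group.
Paper proof: `notes/S5666_plan.md`.
-/

set_option autoImplicit false
set_option linter.unusedSectionVars false
set_option linter.unusedVariables false

namespace Cfsg.Agent.Lib.Helper18.T23.H2.SOT
open Matrix
open Cfsg.Agent.Lib.Helper25.Tens Cfsg.Agent.Lib.Helper25.SpT Cfsg.Agent.Lib.Helper19.OSub
open scoped Kronecker

variable {F : Type*} [Field F] {a b : ℕ}

/-- the symmetric form on `B = F^b` with Gram matrix `G` -/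
def fB (G : Matrix (Fin b) (Fin b) F) (y y' : Fin b → F) : F := y ⬝ᵥ (G *ᵥ y')

/-- the form on `V = A ⊗ B` with Gram matrix `Jm a ⊗ₖ G` -/
def fV (G : Matrix (Fin b) (Fin b) F) (v w : Idx a b → F) : F :=
  v ⬝ᵥ ((Jm a ⊗ₖ G : Matrix (Idx a b) (Idx a b) F) *ᵥ w)

lemma fB_add_left (G : Matrix (Fin b) (Fin b) F) (y y' z : Fin b → F) :
    fB G (y + y') z = fB G y z + fB G y' z := by
  simp only [fB, add_dotProduct]

lemma fB_add_right (G : Matrix (Fin b) (Fin b) F) (y z z' : Fin b → F) :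
    fB G y (z + z') = fB G y z + fB G y z' := by
  simp only [fB, Matrix.mulVec_add, dotProduct_add]

lemma fB_smul_left (G : Matrix (Fin b) (Fin b) F) (c : F) (y z : Fin b → F) :
    fB G (c • y) z = c * fB G y z := by
  simp only [fB, smul_dotProduct, smul_eq_mul]

lemma fB_smul_right (G : Matrix (Fin b) (Fin b) F) (c : F) (y z : Fin b → F) :
    fB G y (c • z) = c * fB G y z := by
  simp only [fB, Matrix.mulVec_smul, dotProduct_smul, smul_eq_mul]

lemma fB_comm (G : Matrix (Fin b) (Fin b) F) (hG : Gᵀ = G) (y z : Fin b → F) :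
    fB G y z = fB G z y := by
  unfold fB
  rw [Matrix.dotProduct_mulVec, dotProduct_comm, ← Matrix.mulVec_transpose, hG]

lemma fV_add_left (G : Matrix (Fin b) (Fin b) F) (v v' w : Idx a b → F) :
    fV G (v + v') w = fV G v w + fV G v' w := by
  simp only [fV, add_dotProduct]

lemma fV_add_right (G : Matrix (Fin b) (Fin b) F) (v w w' : Idx a b → F) :
    fV G v (w + w') = fV G v w + fV G v w' := by
  simp only [fV, Matrix.mulVec_add, dotProduct_add]

lemma fV_smul_left (G : Matrix (Fin b) (Fin b) F) (c : F) (v w : Idx a b → F) :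
    fV G (c • v) w = c * fV G v w := by
  simp only [fV, smul_dotProduct, smul_eq_mul]

lemma fV_smul_right (G : Matrix (Fin b) (Fin b) F) (c : F) (v w : Idx a b → F) :
    fV G v (c • w) = c * fV G v w := by
  simp only [fV, Matrix.mulVec_smul, dotProduct_smul, smul_eq_mul]

/-- the form on pure tensors -/
lemma fV_pt (G : Matrix (Fin b) (Fin b) F) (x x' : Fin a → F) (y y' : Fin b → F) :
    fV G (pt x y) (pt x' y') = sf x x' * fB G y y' := by
  unfold fV fB sf
  rw [kron_mulVec_pt]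
  simp only [dotProduct, pt, Fintype.sum_prod_type]
  rw [Finset.sum_mul_sum]
  apply Finset.sum_congr rfl; intro i _
  apply Finset.sum_congr rfl; intro l _
  ring

/-- the isometry group of `fV G` (the symplectic group of the model) -/
def SpV (G : Matrix (Fin b) (Fin b) F) : Subgroup (GL (Idx a b) F) :=
  Cfsg.preserving (Cfsg.glToMat (Idx a b) F) (fV G)

lemma mem_SpV {G : Matrix (Fin b) (Fin b) F} {g : GL (Idx a b) F} :
    g ∈ SpV G ↔ ∀ v w, fV G (mv g v) (mv g w) = fV G v w := Iff.rfl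

/-- the matrix of the transvection `v ↦ v + c * fV v u • u` -/
def tvMat (G : Matrix (Fin b) (Fin b) F) (u : Idx a b → F) (c : F) :
    Matrix (Idx a b) (Idx a b) F :=
  1 + c • Matrix.vecMulVec u ((Jm a ⊗ₖ G : Matrix (Idx a b) (Idx a b) F) *ᵥ u)

lemma tvMat_mulVec (G : Matrix (Fin b) (Fin b) F) (u : Idx a b → F) (c : F) (v : Idx a b → F) :
    tvMat G u c *ᵥ v = v + (c * fV G v u) • u := by
  unfold tvMat fV
  rw [Matrix.add_mulVec, Matrix.one_mulVec, Matrix.smul_mulVec, Matrix.vecMulVec_mulVec,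
    dotProduct_comm v]
  congr 1
  ext p
  simp only [Pi.smul_apply, smul_eq_mul, MulOpposite.smul_eq_mul_unop, MulOpposite.unop_op]
  ring

/-- `M` contains a nontrivial transvection whose centre is a pure tensor `x ⊗ z`, `z` singular -/
def HasTv (G : Matrix (Fin b) (Fin b) F) (M : Subgroup (GL (Idx a b) F)) : Prop :=
  ∃ (x : Fin a → F) (z : Fin b → F) (c : F), x ≠ 0 ∧ z ≠ 0 ∧ fB G z z = 0 ∧ c ≠ 0 ∧
    InM M (tvMat G (pt x z) c)

/-- `M` contains all transvections -/
def AllTv (G : Matrix (Fin b) (Fin b) F) (M : Subgroup (GL (Idx a b) F)) : Prop :=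
  ∀ (u : Idx a b → F) (c : F), InM M (tvMat G u c)

/-- the context: `a` even, `b ≥ 3`, `ab ≥ 10` (relaxed from `14` by helper14 for the rows sp10 / sp12, see
notes/SpLow_plan.md; the bound is consumed only in `Helper28.SOTBMain.partII`, which needs `5 ≤ b` for `a = 2`), `G` symmetric invertible, `q` odd, not `(q,b) = (3,3)` -/
structure Ctx [Fintype F] (a b : ℕ) (G : Matrix (Fin b) (Fin b) F) : Prop where
  ea : Even a
  ha : 2 ≤ a
  hb : 3 ≤ b
  symm : Gᵀ = G
  nd : G.det ≠ 0
  two : (2 : F) ≠ 0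
  hex : ¬ (Fintype.card F = 3 ∧ b = 3)

/-- the overgroup context `KG ⊓ SpV ≤ M ≤ SpV` -/
structure MCtx [Fintype F] (a b : ℕ) (G : Matrix (Fin b) (Fin b) F)
    (M : Subgroup (GL (Idx a b) F)) : Prop extends Ctx a b G where
  le : KG a b F ⊓ SpV G ≤ M
  le_sp : M ≤ SpV G

/-- (L1) elements of `M` stabilising an `A`-fibre `x ⊗ B` lie in the Kronecker group -/
def L1 (M : Subgroup (GL (Idx a b) F)) : Prop :=
  ∀ x : Fin a → F, x ≠ 0 → ∀ g ∈ M,
    (∀ y : Fin b → F, ∃ y' : Fin b → F, mv g (pt x y) = pt x y') → g ∈ KG a b F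

/-- (L2) fusion control for the root groups `X_x = {kA x c}` -/
def L2 (M : Subgroup (GL (Idx a b) F)) : Prop :=
  ∀ x : Fin a → F, x ≠ 0 → ∀ m ∈ M,
    (∀ c : F, m⁻¹ * (kA x c : GL (Idx a b) F) * m ∈ KG a b F) → m ∈ KG a b F

end Cfsg.Agent.Lib.Helper18.T23.H2.SOT
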